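import Mathlib
import Groth.Agent.Hensel.Idempotent
import Groth.Agent.PairHens.Basic

set_option autoImplicit false

/-!
# Algebras over a henselian pair which are finite modulo the ideal
-/

universe u

namespace Groth.Agent.HensFinite

open PrimeSpectrum

variable {A R : Type u} [CommRing A] [CommRing R] [Algebra A R]

theorem quasiFiniteAt_of_finite_quotient [Algebra.FiniteType A R] (J : Ideal A)
    [Module.Finite A (R ⧸ J.map (algebraMap A R))] (p : Ideal R) [hp : p.IsPrime]
    (h : J.map (algebraMap A R) ≤ p) : Algebra.QuasiFiniteAt A p := by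
  refine (Algebra.quasiFiniteAt_iff_isOpen_singleton_fiber ⟨p, hp⟩).mpr ?_
  set P : PrimeSpectrum R := ⟨p, hp⟩ with hP
  let π : PrimeSpectrum (R ⧸ J.map (algebraMap A R)) → PrimeSpectrum R :=
    comap (Ideal.Quotient.mk (J.map (algebraMap A R)))
  have hind : Topology.IsInducing π :=
    (isClosedEmbedding_comap_of_surjective _ _ Ideal.Quotient.mk_surjective).isInducing
  have hsub : comap (algebraMap A R) ⁻¹' {comap (algebraMap A R) P} ⊆
      π '' (comap (algebraMap A (R ⧸ J.map (algebraMap A R))) ⁻¹' {comap (algebraMap A R) P}) := by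
    intro Q hQ
    have hJQ : J.map (algebraMap A R) ≤ Q.asIdeal := by
      rw [Ideal.map_le_iff_le_comap]
      intro a ha
      have : a ∈ (comap (algebraMap A R) Q).asIdeal := by
        rw [show comap (algebraMap A R) Q = comap (algebraMap A R) P from hQ]
        exact h (Ideal.mem_map_of_mem _ ha)
      exact this
    have hr : Q ∈ Set.range π := by
      simp only [π]
      rw [range_comap_of_surjective _ _ Ideal.Quotient.mk_surjective, Ideal.mk_ker, mem_zeroLocus]
      exact hJQ
    obtain ⟨q, rfl⟩ := hr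
    refine ⟨q, ?_, rfl⟩
    rw [Set.mem_preimage, IsScalarTower.algebraMap_eq A R (R ⧸ J.map (algebraMap A R)), comap_comp]
    exact hQ
  have hd : IsDiscrete (comap (algebraMap A R) ⁻¹' {comap (algebraMap A R) P}) :=
    ((Algebra.QuasiFinite.isDiscrete_comap_preimage_singleton _).image hind).mono hsub
  haveI := hd.to_subtype
  exact isOpen_discrete _

/-- The set of elements at which `R` is finite over `A`. -/
def finSet : Set R :=
  {r | ∃ S : Subalgebra A R, Module.Finite A S ∧ r ∈ S ∧ ∀ x : R, ∃ n : ℕ, r ^ n * x ∈ S}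

theorem exists_finSet [Algebra.FiniteType A R] (p : Ideal R) [p.IsPrime]
    [Algebra.QuasiFiniteAt A p] : ∃ r ∈ finSet (A := A) (R := R), r ∉ p := by
  obtain ⟨S, hS, r, hrp, H⟩ :=
    Algebra.QuasiFiniteAt.exists_fg_and_exists_notMem_and_awayMap_bijective (R := A) p
  refine ⟨r, ⟨S, ⟨(Submodule.fg_top _).mpr hS⟩, r.2, fun x => ?_⟩, hrp⟩
  obtain ⟨y, hy⟩ := H.2 (algebraMap R (Localization.Away (r : R)) x)
  obtain ⟨s, ⟨_, k, rfl⟩, rfl⟩ := IsLocalization.exists_mk'_eq (.powers r) y
  have h2 := congrArg (Localization.awayMap S.val.toRingHom r)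
    (IsLocalization.mk'_spec (M := Submonoid.powers r) (Localization.Away r) s ⟨r ^ k, k, rfl⟩)
  rw [map_mul] at h2
  simp only [Localization.awayMap, IsLocalization.Away.map] at hy h2
  rw [hy, IsLocalization.map_eq, IsLocalization.map_eq] at h2
  have h3 : algebraMap R (Localization.Away (r : R)) (x * (r : R) ^ k) =
      algebraMap R (Localization.Away (r : R)) (s : R) := by
    rw [map_mul]; exact h2
  obtain ⟨⟨_, l, rfl⟩, hl⟩ := (IsLocalization.eq_iff_exists (Submonoid.powers (r : R))
    (Localization.Away (r : R))).mp h3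
  refine ⟨l + k, ?_⟩
  have : (r : R) ^ (l + k) * x = (r : R) ^ l * (s : R) := by
    rw [pow_add, mul_assoc, mul_comm ((r : R) ^ k) x]
    simpa using hl
  rw [this]
  exact S.mul_mem (S.pow_mem r.2 _) s.2

theorem exists_subalgebra (F : Finset R) (hF : ∀ r ∈ F, r ∈ finSet (A := A)) :
    ∃ S : Subalgebra A R, Module.Finite A S ∧ (∀ r ∈ F, r ∈ S) ∧
      ∀ x : R, ∃ n : ℕ, ∀ r ∈ F, r ^ n * x ∈ S := by
  classical
  induction F using Finset.induction with
  | empty => exact ⟨⊥, inferInstance, by simp, fun _ => ⟨0, by simp⟩⟩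
  | insert a F ha ih =>
    obtain ⟨S, hS, hSF, hSn⟩ := ih fun r hr => hF r (Finset.mem_insert_of_mem hr)
    obtain ⟨T, hT, haT, hTn⟩ := hF a (Finset.mem_insert_self _ _)
    refine ⟨S ⊔ T, Subalgebra.finite_sup S T, fun r hr => ?_, fun x => ?_⟩
    · rcases Finset.mem_insert.mp hr with rfl | hr
      · exact (le_sup_right : T ≤ S ⊔ T) haT
      · exact (le_sup_left : S ≤ S ⊔ T) (hSF r hr)
    · obtain ⟨n, hn⟩ := hSn x
      obtain ⟨m, hm⟩ := hTn x
      refine ⟨n + m, fun r hr => ?_⟩
      rcases Finset.mem_insert.mp hr with rfl | hr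
      · rw [pow_add, mul_assoc]
        exact mul_mem (pow_mem ((le_sup_right : T ≤ S ⊔ T) haT) _) ((le_sup_right : T ≤ S ⊔ T) hm)
      · rw [add_comm, pow_add, mul_assoc]
        exact mul_mem (pow_mem ((le_sup_left : S ≤ S ⊔ T) (hSF r hr)) _)
          ((le_sup_left : S ≤ S ⊔ T) (hn r hr))

theorem exists_idempotent_finite_away (I : Ideal A) [HenselianRing A I] [Algebra.FiniteType A R]
    [Module.Finite A (R ⧸ I.map (algebraMap A R))] :
    ∃ e : R, IsIdempotentElem e ∧ e - 1 ∈ I.map (algebraMap A R) ∧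
      Module.Finite A (Localization.Away e) := by
  classical
  set J := I.map (algebraMap A R) with hJ
  have htop : Ideal.span (finSet (A := A) (R := R)) ⊔ J = ⊤ := by
    by_contra hne
    obtain ⟨m, hm, hle⟩ := Ideal.exists_le_maximal _ hne
    haveI := quasiFiniteAt_of_finite_quotient I m (le_sup_right.trans hle)
    obtain ⟨r, hr, hrm⟩ := exists_finSet (A := A) m
    exact hrm ((le_sup_left (b := J)).trans hle (Ideal.subset_span hr))
  obtain ⟨k₀, hk₀, j, hj, hkj⟩ := Submodule.mem_sup.mp ((Ideal.eq_top_iff_one _).mp htop)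
  obtain ⟨F, hF, hk₀F⟩ := Submodule.mem_span_finite_of_mem_span hk₀
  obtain ⟨S, hS, hSF, hSn⟩ := exists_subalgebra F fun r hr => hF hr
  let K : ℕ → Ideal S := fun n => Ideal.span {s : S | ∃ r ∈ F, (s : R) = r ^ n}
  have hKmax : ∀ n, ∀ M : Ideal S, M.IsMaximal → K n ≤ M → ∀ r (hr : r ∈ F), (⟨r, hSF r hr⟩ : S) ∈ M :=
    fun n M hM hKM r hr => hM.isPrime.mem_of_pow_mem n (hKM (Ideal.subset_span ⟨r, hr, by simp⟩))
  have hKsmul : ∀ n, ∀ x : R, (∀ r ∈ F, r ^ n * x ∈ S) → ∀ k ∈ K n, (k : R) * x ∈ S := by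
    intro n x hx k hk
    induction hk using Submodule.span_induction with
    | mem y hy => obtain ⟨r, hr, hyr⟩ := hy; rw [hyr]; exact hx r hr
    | zero => simp
    | add y z _ _ h1 h2 =>
      rw [AddMemClass.coe_add, add_mul]; exact add_mem h1 h2
    | smul c y _ h1 =>
      rw [smul_eq_mul, MulMemClass.coe_mul, mul_assoc]; exact mul_mem c.2 h1
  set IS := I.map (algebraMap A S) with hIS
  let L : Ideal S := J.comap (S.val : S →+* R)
  have hKL : K 1 ⊔ L = ⊤ := by
    let f : S →+* R ⧸ J := (Ideal.Quotient.mk J).comp (S.val : S →+* R)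
    have hf : f.IsIntegral := RingHom.IsIntegral.tower_top (algebraMap A S) f
      (by
        have : f.comp (algebraMap A S) = algebraMap A (R ⧸ J) := RingHom.ext fun _ => rfl
        rw [this]
        exact Algebra.IsIntegral.isIntegral)
    by_contra hne
    obtain ⟨m, hm, hle⟩ := Ideal.exists_le_maximal _ hne
    algebraize [f]
    have hker : RingHom.ker (algebraMap S (R ⧸ J)) ≤ m := by
      intro s hs
      refine hle (Submodule.mem_sup_right ?_)
      show (s : R) ∈ J
      rw [← Ideal.Quotient.eq_zero_iff_mem]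
      exact hs
    haveI := hm.isPrime
    obtain ⟨Q, -, hQp, hQ⟩ := Ideal.exists_ideal_over_prime_of_isIntegral (S := R ⧸ J) m (⊥ : Ideal (R ⧸ J))
      (by rw [← RingHom.ker_eq_comap_bot]; exact hker)
    haveI := hQp
    have hrQ : ∀ r ∈ F, Ideal.Quotient.mk J r ∈ Q := by
      intro r hr
      have : (⟨r, hSF r hr⟩ : S) ∈ m :=
        hle (Submodule.mem_sup_left (Ideal.subset_span ⟨r, hr, (pow_one r).symm⟩))
      rw [← hQ] at this
      exact this
    have h1 : Ideal.Quotient.mk J k₀ ∈ Q := by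
      have := Ideal.mem_map_of_mem (Ideal.Quotient.mk J) hk₀F
      rw [Ideal.map_span] at this
      exact (Ideal.span_le.mpr (by rintro _ ⟨r, hr, rfl⟩; exact hrQ r hr)) this
    have h2 : Ideal.Quotient.mk J k₀ = 1 := by
      rw [← map_one (Ideal.Quotient.mk J)]
      refine Ideal.Quotient.eq.mpr ?_
      rw [← hkj, sub_add_cancel_left]
      exact J.neg_mem hj
    exact hQp.ne_top ((Ideal.eq_top_iff_one _).mpr (h2 ▸ h1))
  obtain ⟨k, hk, l, hl, hkl⟩ := Submodule.mem_sup.mp ((Ideal.eq_top_iff_one _).mp hKL)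
  have hpush : ∀ y ∈ J, ∃ n : ℕ, ∀ m ≥ n, ∀ c ∈ K m, ∃ z ∈ IS, (z : R) = (c : R) * y := by
    intro y hy
    rw [hJ, Ideal.map] at hy
    obtain ⟨N, t, x, htx⟩ := Submodule.mem_span_set'.1 hy
    choose a ha hax using fun i => (x i).2
    choose n hn using fun i => hSn (t i)
    refine ⟨Finset.univ.sup n, fun m hm c hc => ?_⟩
    have hmem : ∀ i, (c : R) * t i ∈ S := fun i => hKsmul m (t i) (fun r hr => by
      obtain ⟨d, hd⟩ := Nat.exists_eq_add_of_le ((Finset.le_sup (Finset.mem_univ i)).trans hm)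
      rw [hd, add_comm, pow_add, mul_assoc]
      exact mul_mem (pow_mem (hSF r hr) _) (hn i r hr)) c hc
    refine ⟨∑ i, (⟨(c : R) * t i, hmem i⟩ : S) * algebraMap A S (a i),
      sum_mem fun i _ => Ideal.mul_mem_left _ _ (Ideal.mem_map_of_mem _ (ha i)), ?_⟩
    rw [← htx, Finset.mul_sum]
    simp only [AddSubmonoidClass.coe_finset_sum, MulMemClass.coe_mul]
    refine Finset.sum_congr rfl fun i _ => ?_
    rw [smul_eq_mul, ← hax i, mul_assoc]
    rfl
  obtain ⟨n, hn⟩ := hpush (l : R) hl
  have hrad : k ∈ (K n).radical := by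
    refine (Ideal.span_le.mpr ?_ : K 1 ≤ _) hk
    rintro s ⟨r, hr, hs⟩
    exact ⟨n, Ideal.subset_span ⟨r, hr, by rw [SubmonoidClass.coe_pow, hs, pow_one]⟩⟩
  obtain ⟨M₀, hM₀⟩ := hrad
  set M := M₀ + 1 with hMdef
  have hM : k ^ M ∈ K n := by rw [pow_succ]; exact (K n).mul_mem_right _ hM₀
  have hkMl : k ^ M * l ∈ IS := by
    obtain ⟨z, hz, hz'⟩ := hn n le_rfl (k ^ M) hM
    rwa [show k ^ M * l = z from Subtype.ext (by rw [hz']; simp)]
  obtain ⟨v, hv⟩ : k ^ M ∣ 1 - (1 - k ^ M) ^ (M + 1) := by
    have := sub_one_dvd_pow_sub_one (1 - k ^ M) (M + 1)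
    rwa [sub_sub_cancel_left, neg_dvd, ← dvd_neg, neg_sub] at this
  obtain ⟨w, hw⟩ : l ∣ (1 - k ^ M) ^ (M + 1) := by
    refine dvd_pow ?_ (Nat.succ_ne_zero M)
    have h1 := sub_dvd_pow_sub_pow 1 k M
    rwa [one_pow, ← hkl, add_sub_cancel_left, hkl] at h1
  set b : S := 1 - (1 - k ^ M) ^ (M + 1) with hb
  have hbb : b * b - b ∈ IS := by
    have h1 : b * b - b = -(v * w) * (k ^ M * l) := by
      calc b * b - b = -(b * (1 - b)) := by ring
        _ = -((k ^ M * v) * (l * w)) := by rw [← hw, ← hv, hb]; ring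
        _ = _ := by ring
    rw [h1]; exact Ideal.mul_mem_left _ _ hkMl
  obtain ⟨e, he, heb⟩ :=
    Hensel.exists_idempotent_of_isIntegral (A := A) (B := S) HenselianRing.jac Hensel.gabberRoot hbb
  have heK : ∀ m, e ∈ K m := by
    intro m
    suffices htop' : K m ⊔ Ideal.span {1 - e} = ⊤ by
      obtain ⟨κ, hκ, q, hq, hκq⟩ := Submodule.mem_sup.mp ((Ideal.eq_top_iff_one _).mp htop')
      obtain ⟨c, rfl⟩ := Ideal.mem_span_singleton'.mp hq
      have : e = e * κ := by
        linear_combination e * hκq.symm - c * he.eq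
      rw [this]; exact Ideal.mul_mem_left _ _ hκ
    by_contra hne
    obtain ⟨P, hP, hle⟩ := Ideal.exists_le_maximal _ hne
    have hISP : IS ≤ P := (Hensel.map_le_jacobson_of_isIntegral HenselianRing.jac).trans
      (sInf_le ⟨bot_le, hP⟩)
    have hkP : k ∈ P := by
      refine (Ideal.span_le.mpr ?_ : K 1 ≤ P) hk
      rintro s ⟨r, hr, hs⟩
      have := hKmax m P hP (le_sup_left.trans hle) r hr
      rwa [show s = ⟨r, hSF r hr⟩ from Subtype.ext (by rw [hs, pow_one])]
    have hbP : b ∈ P := by
      rw [hv]; exact P.mul_mem_right _ (Ideal.pow_mem_of_mem _ hkP M (by omega))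
    have heP : e ∈ P := by
      have := add_mem (hISP heb) hbP
      rwa [sub_add_cancel] at this
    have h1e : 1 - e ∈ P := hle (Submodule.mem_sup_right (Ideal.mem_span_singleton_self _))
    exact hP.ne_top ((Ideal.eq_top_iff_one _).mpr (by simpa using add_mem heP h1e))
  have heR : (e : R) - 1 ∈ J := by
    have h1 : ((e : R) - b) ∈ J := by
      have := Ideal.mem_map_of_mem (S.val : S →+* R) heb
      rw [Ideal.map_map, show (S.val : S →+* R).comp (algebraMap A S) = algebraMap A R from
        RingHom.ext fun _ => rfl] at this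
      simpa using this
    have h2 : ((b : R) - 1) ∈ J := by
      have : b - 1 = -(l * w) := by rw [hb, hw]; ring
      have h3 := congrArg (S.val : S →+* R) this
      simp only [map_sub, map_one, map_neg, map_mul] at h3
      rw [show ((b : R) - 1) = -((l : R) * (w : R)) from h3]
      exact J.neg_mem (J.mul_mem_right _ hl)
    simpa using add_mem h1 h2
  refine ⟨e, he.map S.val, heR, ?_⟩
  refine Module.Finite.of_surjective
    ((IsScalarTower.toAlgHom A R (Localization.Away (e : R))).comp S.val).toLinearMap fun y => ?_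
  obtain ⟨x, ⟨_, m, rfl⟩, rfl⟩ := IsLocalization.exists_mk'_eq (.powers (e : R)) y
  obtain ⟨N, hN⟩ := hSn x
  refine ⟨⟨(e : R) * x, hKsmul N x hN e (heK N)⟩, ?_⟩
  show algebraMap R (Localization.Away (e : R)) ((e : R) * x) = _
  rw [eq_comm, IsLocalization.mk'_eq_iff_eq_mul, ← map_mul]
  refine (IsLocalization.eq_iff_exists (Submonoid.powers (e : R)) _).mpr ⟨⟨(e : R) ^ 1, 1, rfl⟩, ?_⟩
  have h1 : (e : R) * e = e := congrArg (S.val) he.eq
  have h2 : ∀ t : ℕ, (e : R) * (e : R) ^ t = e := fun t => by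
    induction t with
    | zero => simp
    | succ t iht => rw [pow_succ, ← mul_assoc, iht, h1]
  simp only [pow_one]
  linear_combination (-(e : R) * x) * h2 m + (-x) * h1

/-- A localization at an element congruent to one, if henselian, is the henselization. -/
theorem isPairHenselization_away (J : Ideal R) (e : R) (he : e - 1 ∈ J)
    (h : HenselianRing (Localization.Away e) (J.map (algebraMap R (Localization.Away e)))) :
    Hens2.IsPairHenselization R J (Localization.Away e) := by
  refine ⟨h, fun C _ J' f hC hf => ?_⟩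
  have hu : IsUnit (f e) := by
    refine Hensel.isUnit_of_sub_mem hC.jac isUnit_one ?_
    rw [← map_one f, ← map_sub]
    exact hf (Ideal.mem_map_of_mem f he)
  refine ⟨IsLocalization.Away.lift e hu, IsLocalization.Away.lift_comp e hu, fun g hg => ?_⟩
  refine IsLocalization.ringHom_ext (.powers e) ?_
  rw [hg, IsLocalization.Away.lift_comp]

/-- A henselized algebra finite modulo the ideal is finite and isomorphic to a localization. -/
theorem exists_algEquiv_away (I : Ideal A) [HenselianRing A I] [Algebra.FiniteType A R]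
    [Module.Finite A (R ⧸ I.map (algebraMap A R))]
    (B : Type u) [CommRing B] [Algebra R B] [Algebra A B] [IsScalarTower A R B]
    (hB : Hens2.IsPairHenselization R (I.map (algebraMap A R)) B) :
    ∃ e : R, Module.Finite A (Localization.Away e) ∧
      Nonempty (Localization.Away e ≃ₐ[A] B) := by
  obtain ⟨e, -, he, hfin⟩ := exists_idempotent_finite_away (R := R) I
  have hH : HenselianRing (Localization.Away e)
      ((I.map (algebraMap A R)).map (algebraMap R (Localization.Away e))) := by
    rw [Ideal.map_map, ← IsScalarTower.algebraMap_eq]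
    exact Hensel.of_isIntegral (Localization.Away e)
  obtain ⟨f⟩ := PairHens.exists_algEquiv hB
  obtain ⟨g⟩ := PairHens.exists_algEquiv (isPairHenselization_away _ e he hH)
  exact ⟨e, hfin, ⟨(g.symm.trans f).restrictScalars A⟩⟩

theorem finite_quotient_of_finite (I : Ideal A) (B : Type u) [CommRing B] [Algebra R B]
    [Algebra A B] [IsScalarTower A R B]
    (hB : Hens2.IsPairHenselization R (I.map (algebraMap A R)) B)
    (hfin : (Ideal.quotientMap (I.map (algebraMap A B)) (algebraMap A B) Ideal.le_comap_map).Finite) :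
    Module.Finite A (R ⧸ I.map (algebraMap A R)) := by
  haveI h1 : Module.Finite A (B ⧸ I.map (algebraMap A B)) := by
    rw [← RingHom.finite_algebraMap]
    have : algebraMap A (B ⧸ I.map (algebraMap A B)) =
        (Ideal.quotientMap (I.map (algebraMap A B)) (algebraMap A B) Ideal.le_comap_map).comp
          (Ideal.Quotient.mk I) := RingHom.ext fun _ => rfl
    rw [this]
    exact hfin.comp (RingHom.Finite.of_surjective _ Ideal.Quotient.mk_surjective)
  obtain ⟨ε, hε, -⟩ := PairHens.exists_point hB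
  refine Module.Finite.of_surjective (M := B ⧸ I.map (algebraMap A B))
    (Ideal.Quotient.liftₐ (I.map (algebraMap A B)) (ε.restrictScalars A) fun b hb => ?_).toLinearMap
    fun x => ?_
  · have : I.map (algebraMap A B) = (I.map (algebraMap A R)).map (algebraMap R B) := by
      rw [Ideal.map_map, ← IsScalarTower.algebraMap_eq]
    rw [this, ← hε] at hb
    exact hb
  · obtain ⟨r, rfl⟩ := Ideal.Quotient.mk_surjective x
    exact ⟨Ideal.Quotient.mk _ (algebraMap R B r), ε.commutes r⟩

end Groth.Agent.HensFinite
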